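import Mathlib
import Cfsg.Agent.Lib.PSolvable.Core
import Cfsg.Agent.Lib.OddOmega.Basic

/-!
Gaschütz–Yen: `p`-length one when the automorphism group is transitive on subgroups of order `p`.
-/

namespace CfsgLib.PLengthOne

open scoped Pointwise

set_option linter.style.haveILetI false

variable {G : Type*} [Group G] [Finite G] {p : ℕ} [Fact p.Prime]

omit [Finite G] in
theorem mem_pCore_of_char (a : MulAut G) {x : G} (hx : x ∈ Cfsg.pCore p G) : a x ∈ Cfsg.pCore p G := by
  have h : (Cfsg.pCore p G).map a.toMonoidHom ≤ Cfsg.pCore p G :=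
    CfsgLib.Fitting.le_pCore ((CfsgLib.Fitting.pCore_normal p).map _ a.surjective)
      ((CfsgLib.Fitting.pCore_isPGroup p).map _)
  exact h ⟨x, hx, rfl⟩

omit [Finite G] in
theorem mem_pPrimeCore_of_char (a : MulAut G) {x : G} (hx : x ∈ Cfsg.pPrimeCore p G) :
    a x ∈ Cfsg.pPrimeCore p G := by
  have h := Subgroup.characteristic_iff_map_eq.mp
    (inferInstance : (Cfsg.pPrimeCore p G).Characteristic) a
  exact h ▸ Subgroup.mem_map_of_mem _ hx

/-- The reduced case: `O_{p'}(G) = 1` forces a normal Sylow `p`-subgroup. -/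
theorem not_dvd_index_pCore (hp : p ≠ 2) (hG : Cfsg.IsPSolvable p G) (hdvd : p ∣ Nat.card G)
    (hO : Cfsg.pPrimeCore p G = ⊥)
    (htrans : ∀ U V : Subgroup G, Nat.card U = p → Nat.card V = p →
      ∃ a : MulAut G, U.map a.toMonoidHom = V) :
    ¬ p ∣ (Cfsg.pCore p G).index := by
  intro hidx
  set Q := Cfsg.pCore p G with hQ
  haveI hQn : Q.Normal := CfsgLib.Fitting.pCore_normal p
  have hQp : IsPGroup p Q := CfsgLib.Fitting.pCore_isPGroup p
  have hCQ := CfsgLib.PSolvable.centralizer_pCore_le hG hO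
  -- a char subgroup containing an element of order `p` contains all of them
  have hchar : ∀ S : Subgroup G, (∀ a : MulAut G, ∀ x ∈ S, a x ∈ S) → ∀ u ∈ S, u ≠ 1 → u ^ p = 1 →
      ∀ g : G, g ^ p = 1 → g ∈ S := by
    intro S hS u hu hu1 hup g hg
    by_cases hg1 : g = 1
    · rw [hg1]; exact S.one_mem
    obtain ⟨a, ha⟩ := htrans (Subgroup.zpowers u) (Subgroup.zpowers g)
      (by rw [Nat.card_zpowers, orderOf_eq_prime hup hu1])
      (by rw [Nat.card_zpowers, orderOf_eq_prime hg hg1])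
    have : g ∈ (Subgroup.zpowers u).map a.toMonoidHom := ha ▸ Subgroup.mem_zpowers g
    obtain ⟨y, hy, rfl⟩ := this
    exact hS a y ((Subgroup.zpowers_le.mpr hu) hy)
  -- the elements of order `p` of the centre of `Q`
  have hQne : Q ≠ ⊥ := by
    intro hbot
    obtain ⟨x, hx⟩ := exists_prime_orderOf_dvd_card' p hdvd
    have : x ∈ Subgroup.centralizer (Q : Set G) := Subgroup.mem_centralizer_iff.mpr fun g hg => by
      rw [hbot, Subgroup.coe_bot, Set.mem_singleton_iff] at hg
      rw [hg, one_mul, mul_one]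
    have h1 := hCQ this
    rw [← hQ, hbot, Subgroup.mem_bot] at h1
    rw [h1, orderOf_one] at hx
    exact (Fact.out : p.Prime).ne_one hx.symm
  let V : Subgroup G :=
    { carrier := {x | x ∈ Q ∧ (∀ y ∈ Q, y * x = x * y) ∧ x ^ p = 1}
      one_mem' := ⟨Q.one_mem, fun y _ => by rw [mul_one, one_mul], one_pow p⟩
      mul_mem' := fun {a b} ha hb => ⟨Q.mul_mem ha.1 hb.1, fun y hy => by
          rw [← mul_assoc, ha.2.1 y hy, mul_assoc, hb.2.1 y hy, mul_assoc], by
          rw [(show Commute a b from (ha.2.1 b hb.1).symm).mul_pow, ha.2.2, hb.2.2, one_mul]⟩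
      inv_mem' := fun {a} ha => ⟨Q.inv_mem ha.1, fun y hy =>
          ((show Commute y a from ha.2.1 y hy).inv_right).eq, by rw [inv_pow, ha.2.2, inv_one]⟩ }
  have hVchar : ∀ a : MulAut G, ∀ x ∈ V, a x ∈ V := by
    intro a x hx
    refine ⟨mem_pCore_of_char a hx.1, fun y hy => ?_, by rw [← map_pow, hx.2.2, map_one]⟩
    have hy' : a⁻¹ y ∈ Q := mem_pCore_of_char a⁻¹ hy
    have h1 := congrArg a (hx.2.1 _ hy')
    simpa using h1
  obtain ⟨u, hu, hu1, hup⟩ : ∃ u ∈ V, u ≠ 1 ∧ u ^ p = 1 := by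
    haveI : Nontrivial Q := (Subgroup.nontrivial_iff_ne_bot Q).mpr hQne
    have hcn : Nontrivial (Subgroup.center Q) := hQp.center_nontrivial
    obtain ⟨k, hk⟩ := IsPGroup.iff_card.mp (hQp.to_subgroup (Subgroup.center Q))
    have hk0 : p ∣ Nat.card (Subgroup.center Q) := by
      rcases Nat.eq_zero_or_pos k with rfl | hk0
      · exact absurd hk (by rw [pow_zero]; exact (Finite.one_lt_card (α := Subgroup.center Q)).ne')
      · exact hk ▸ dvd_pow_self p hk0.ne'
    obtain ⟨z, hz⟩ := exists_prime_orderOf_dvd_card' p hk0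
    have hzp : ((z : Q) : G) ^ p = 1 := by
      rw [← Subgroup.coe_pow, ← Subgroup.coe_pow, ← hz, pow_orderOf_eq_one]; rfl
    refine ⟨((z : Q) : G), ⟨(z : Q).2, fun y hy => ?_, hzp⟩, fun h => ?_, hzp⟩
    · exact congrArg Subtype.val (Subgroup.mem_center_iff.mp z.2 ⟨y, hy⟩)
    · rw [OneMemClass.coe_eq_one, OneMemClass.coe_eq_one] at h
      rw [h, orderOf_one] at hz
      exact (Fact.out : p.Prime).ne_one hz.symm
  have hall : ∀ g : G, g ^ p = 1 → g ∈ V := hchar V hVchar u hu hu1 hup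
  -- the `p'`-part on top of `Q`
  set Gb := G ⧸ Q
  have hGbp : Cfsg.pCore p Gb = ⊥ := by
    haveI := CfsgLib.Fitting.pCore_normal (G := Gb) p
    have hle : (Cfsg.pCore p Gb).comap (QuotientGroup.mk' Q) ≤ Q :=
      CfsgLib.Fitting.le_pCore inferInstance
        ((CfsgLib.Fitting.pCore_isPGroup p).comap_of_ker_isPGroup _ (by rw [QuotientGroup.ker_mk']; exact hQp))
    rw [eq_bot_iff]
    intro q hq
    obtain ⟨g, rfl⟩ := QuotientGroup.mk_surjective q
    exact Subgroup.mem_bot.mpr ((QuotientGroup.eq_one_iff g).mpr (hle hq))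
  haveI := CfsgLib.Transfer.pPrimeCore_normal p Gb
  set L : Subgroup G := (Cfsg.pPrimeCore p Gb).comap (QuotientGroup.mk' Q) with hL
  have hQL : Q ≤ L := fun x hx => by
    rw [hL, Subgroup.mem_comap, QuotientGroup.mk'_apply, (QuotientGroup.eq_one_iff x).mpr hx]
    exact Subgroup.one_mem _
  have hLchar : ∀ a : MulAut G, ∀ x ∈ L, a x ∈ L := by
    intro a x hx
    have hmap : Q.map a.toMonoidHom = Q :=
      Subgroup.eq_of_le_of_card_ge (by rintro _ ⟨y, hy, rfl⟩; exact mem_pCore_of_char a hy)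
        (Subgroup.card_map_of_injective a.injective).ge
    exact mem_pPrimeCore_of_char (QuotientGroup.congr Q Q a hmap) hx
  have hLrel : Nat.card (Cfsg.pPrimeCore p Gb) = Q.relIndex L := by
    have h1 := CfsgLib.PSolvable.card_comap_of_surjective (QuotientGroup.mk'_surjective Q) (Cfsg.pPrimeCore p Gb)
    rw [QuotientGroup.ker_mk', ← hL] at h1
    have h2 := Subgroup.card_mul_index (Q.subgroupOf L)
    rw [Nat.card_congr (Subgroup.subgroupOfEquivOfLe hQL).toEquiv, h1] at h2
    exact (Nat.eq_of_mul_eq_mul_left Nat.card_pos h2).symm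
  have hcop : (Q.relIndex L).Coprime p := hLrel ▸ CfsgLib.Transfer.pPrimeCore_coprime p
  have hcop' : (Nat.card Q).Coprime (Q.relIndex L) := by
    obtain ⟨k, hk⟩ := IsPGroup.iff_card.mp hQp
    rw [hk]
    exact hcop.symm.pow_left k
  obtain ⟨R, hRL, hsup, hinf, hRcard⟩ := CfsgLib.Coprime.exists_complement_of_coprime
    (N := Q) (S := L) (le_top.trans (Subgroup.normalizer_eq_top _).ge) (by rw [inf_eq_left.mpr hQL]; exact hcop')
  rw [inf_eq_left.mpr hQL] at hsup hinf
  have hRp : (Nat.card R).Coprime p := hRcard ▸ hcop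
  have hRne : R ≠ ⊥ := by
    intro hbot
    rw [hbot, sup_bot_eq] at hsup
    rw [← hsup, Subgroup.relIndex_self] at hLrel
    have hObot : Cfsg.pPrimeCore p Gb = ⊥ := Subgroup.eq_bot_of_card_eq _ hLrel
    have hC := CfsgLib.PSolvable.centralizer_pCore_le
      (CfsgLib.PSolvable.isPSolvable_of_surjective _ (QuotientGroup.mk'_surjective Q) hG) hObot
    rw [hGbp, Subgroup.coe_bot] at hC
    have h1 : ∀ q : Gb, q = 1 := fun q => Subgroup.mem_bot.mp (hC (Subgroup.mem_centralizer_iff.mpr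
      fun g hg => by rw [Set.mem_singleton_iff] at hg; rw [hg, one_mul, mul_one]))
    have h2 : Q.index = 1 := Nat.card_eq_one_iff_unique.mpr
      ⟨⟨fun a b => (h1 a).trans (h1 b).symm⟩, ⟨1⟩⟩
    rw [h2] at hidx
    exact (Fact.out : p.Prime).not_dvd_one hidx
  set N : Subgroup G := Subgroup.normalizer (R : Set G)
  -- Frattini
  have hfrat : ∀ g : G, ∃ x ∈ Q, ∃ n ∈ N, g = x * n := by
    intro g
    have hLn : L.Normal := inferInstance
    have hgR : MulAut.conj g • R ≤ L := by
      intro y hy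
      rw [Subgroup.mem_pointwise_smul_iff_inv_smul_mem] at hy
      have h1 := hLn.conj_mem _ (hRL hy) g
      simpa [MulAut.smul_def, mul_assoc] using h1
    have hcard' : Nat.card (MulAut.conj g • R : Subgroup G) = Nat.card R :=
      CfsgLib.Coprime.card_conj_smul g R
    have hsup' : Q ⊔ (MulAut.conj g • R) = L := by
      have : MulAut.conj g • (Q ⊔ R) = Q ⊔ MulAut.conj g • R := by
        rw [Subgroup.smul_sup, Subgroup.Normal.conj_smul_eq_self g Q]
      rw [← this, hsup, Subgroup.Normal.conj_smul_eq_self g L]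
    haveI : Group.IsNilpotent Q := hQp.isNilpotent
    obtain ⟨x, hx, hxR⟩ := CfsgLib.Coprime.exists_conj_of_coprime (N := Q) (H := R)
      (K := MulAut.conj g • R) (le_top.trans (Subgroup.normalizer_eq_top _).ge)
      (hRcard ▸ hcop') (hcard'.symm ▸ hRcard ▸ hcop') (hsup.trans hsup'.symm) (Or.inl inferInstance)
    refine ⟨x, hx, x⁻¹ * g, ?_, by group⟩
    rw [CfsgLib.Coprime.mem_normalizer_iff_conj_smul, map_mul, mul_smul, ← hxR, map_inv, inv_smul_smul]
  have hQN : ∀ q ∈ Q, q ∈ N → q ∈ Subgroup.centralizer (R : Set G) := fun q hq hqN =>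
    CfsgLib.Coprime.commute_of_mem_normalizer (le_top.trans (Subgroup.normalizer_eq_top Q).ge) hinf hq hqN
  by_cases hW : ∀ v ∈ V, v ∈ Subgroup.centralizer (R : Set G) → v = 1
  · -- an element of order `p` outside `Q`
    have hQNbot : Q ⊓ N = ⊥ := by
      by_contra hne
      haveI : Nontrivial (Q ⊓ N : Subgroup G) := (Subgroup.nontrivial_iff_ne_bot _).mpr hne
      obtain ⟨k, hk⟩ := IsPGroup.iff_card.mp (hQp.to_le (inf_le_left : Q ⊓ N ≤ Q))
      have hk0 : k ≠ 0 := fun h0 => by
        rw [h0, pow_zero] at hk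
        exact (Finite.one_lt_card (α := (Q ⊓ N : Subgroup G))).ne' hk
      obtain ⟨z, hz⟩ := exists_prime_orderOf_dvd_card' p (hk ▸ dvd_pow_self p hk0)
      have hzp : (z : G) ^ p = 1 := by
        rw [← Subgroup.coe_pow, ← hz, pow_orderOf_eq_one]; rfl
      have hz1 := hW _ (hall _ hzp) (hQN _ z.2.1 z.2.2)
      rw [OneMemClass.coe_eq_one] at hz1
      rw [hz1, orderOf_one] at hz
      exact (Fact.out : p.Prime).ne_one hz.symm
    have hsurj : Function.Surjective ((QuotientGroup.mk' Q).comp N.subtype) := by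
      intro q
      obtain ⟨g, rfl⟩ := QuotientGroup.mk_surjective q
      obtain ⟨x, hx, n, hn, rfl⟩ := hfrat g
      refine ⟨⟨n, hn⟩, ?_⟩
      show ((n : G) : Gb) = _
      rw [QuotientGroup.mk_mul, (QuotientGroup.eq_one_iff x).mpr hx, one_mul]
    obtain ⟨n, hn⟩ := exists_prime_orderOf_dvd_card' p (hidx.trans (Subgroup.card_dvd_of_surjective _ hsurj))
    have hnp : (n : G) ^ p = 1 := by rw [← Subgroup.coe_pow, ← hn, pow_orderOf_eq_one]; rfl
    have hnQN : (n : G) ∈ Q ⊓ N := ⟨(hall _ hnp).1, n.2⟩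
    rw [hQNbot, Subgroup.mem_bot, OneMemClass.coe_eq_one] at hnQN
    rw [hnQN, orderOf_one] at hn
    exact (Fact.out : p.Prime).ne_one hn.symm
  · push Not at hW
    obtain ⟨v, hvV, hvR, hv1⟩ := hW
    let W : Subgroup G := V ⊓ Subgroup.centralizer (L : Set G)
    have hWchar : ∀ a : MulAut G, ∀ x ∈ W, a x ∈ W := by
      intro a x hx
      refine ⟨hVchar a x hx.1, Subgroup.mem_centralizer_iff.mpr fun y hy => ?_⟩
      have h1 := congrArg a (Subgroup.mem_centralizer_iff.mp hx.2 _ (hLchar a⁻¹ y hy))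
      simpa using h1
    have hvW : v ∈ W := by
      refine ⟨hvV, ?_⟩
      have hle : L ≤ Subgroup.centralizer ({v} : Set G) := by
        rw [← hsup]
        refine sup_le (fun y hy => ?_) (fun y hy => ?_)
        · exact Subgroup.mem_centralizer_singleton_iff.mpr (hvV.2.1 y hy)
        · exact Subgroup.mem_centralizer_singleton_iff.mpr (Subgroup.mem_centralizer_iff.mp hvR y hy)
      exact Subgroup.mem_centralizer_iff.mpr fun y hy => Subgroup.mem_centralizer_singleton_iff.mp (hle hy)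
    have hallW : ∀ g : G, g ^ p = 1 → g ∈ W := hchar W hWchar v hvW hv1 hvV.2.2
    refine hRne (eq_bot_iff.mpr fun r hr => Subgroup.mem_bot.mpr ?_)
    set φ : MulAut Q := MulAut.conjNormal r with hφ
    have hord : ¬ p ∣ orderOf φ := by
      intro hd
      have h1 : orderOf φ ∣ orderOf r := orderOf_map_dvd _ r
      have h2 : orderOf r ∣ Nat.card R := Subgroup.orderOf_dvd_natCard _ hr
      exact (Fact.out : p.Prime).not_dvd_one
        (hRp ▸ Nat.dvd_gcd ((hd.trans h1).trans h2) dvd_rfl)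
    have hφ1 : φ = 1 := CfsgLib.OddOmega.eq_one_of_fixes_omega hp hQp φ hord fun x hx => by
      apply Subtype.ext
      rw [hφ, MulAut.conjNormal_apply]
      have h1 := Subgroup.mem_centralizer_iff.mp
        (hallW x (by simpa using congrArg Subtype.val hx)).2 r (hRL hr)
      rw [h1, mul_inv_cancel_right]
    have hrQ : r ∈ Q := hCQ (Subgroup.mem_centralizer_iff.mpr fun g hg => by
      have h1 : r * g * r⁻¹ = g := by
        have := congrArg (fun e : MulAut Q => ((e ⟨g, hg⟩ : Q) : G)) hφ1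
        simpa [hφ, MulAut.conjNormal_apply] using this
      exact (mul_inv_eq_iff_eq_mul.mp h1).symm)
    have : r ∈ Q ⊓ R := ⟨hrQ, hr⟩
    rwa [hinf, Subgroup.mem_bot] at this

theorem not_dvd_index_pCore_quotient (hp : p ≠ 2) (hdvd : p ∣ Nat.card G) (hG : Cfsg.IsPSolvable p G)
    (htrans : ∀ U V : Subgroup G, Nat.card U = p → Nat.card V = p →
      ∃ a : MulAut G, U.map a.toMonoidHom = V) [(Cfsg.pPrimeCore p G).Normal] :
    ¬ p ∣ (Cfsg.pCore p (G ⧸ Cfsg.pPrimeCore p G)).index := by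
  set K := Cfsg.pPrimeCore p G with hK
  have hKp : ¬ p ∣ Nat.card K := CfsgLib.Transfer.not_dvd_card_pPrimeCore
  have hdvd' : p ∣ Nat.card (G ⧸ K) := by
    have e := Subgroup.card_eq_card_quotient_mul_card_subgroup K
    exact ((Fact.out : p.Prime).dvd_mul.mp (e ▸ hdvd)).resolve_right hKp
  refine not_dvd_index_pCore hp
    (CfsgLib.PSolvable.isPSolvable_of_surjective _ (QuotientGroup.mk'_surjective K) hG) hdvd'
    (CfsgLib.PSolvable.pPrimeCore_eq_bot_of_ker (QuotientGroup.mk'_surjective K) (QuotientGroup.ker_mk' K))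
    fun U V hU hV => ?_
  -- lift the subgroups
  have hlift : ∀ U : Subgroup (G ⧸ K), Nat.card U = p →
      ∃ U' : Subgroup G, Nat.card U' = p ∧ U'.map (QuotientGroup.mk' K) = U := by
    intro U hU
    have hc : Nat.card (U.comap (QuotientGroup.mk' K)) = Nat.card K * p := by
      rw [CfsgLib.PSolvable.card_comap_of_surjective (QuotientGroup.mk'_surjective K), QuotientGroup.ker_mk', hU]
    obtain ⟨x, hx⟩ := exists_prime_orderOf_dvd_card' p (hc ▸ dvd_mul_left p (Nat.card K))
    have hxo : orderOf (x : G) = p := by rw [Subgroup.orderOf_coe, hx]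
    refine ⟨Subgroup.zpowers (x : G), by rw [Nat.card_zpowers, hxo],
      Subgroup.eq_of_le_of_card_ge ?_ ?_⟩
    · rw [MonoidHom.map_zpowers, Subgroup.zpowers_le]
      exact x.2
    · rw [hU, MonoidHom.map_zpowers, Nat.card_zpowers]
      have h1 : orderOf (QuotientGroup.mk' K (x : G)) ∣ p := hxo ▸ orderOf_map_dvd _ _
      refine ((Nat.dvd_prime Fact.out).mp h1).elim (fun h => absurd ?_ hKp) (fun h => h.ge)
      rw [orderOf_eq_one_iff, QuotientGroup.mk'_apply, QuotientGroup.eq_one_iff] at h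
      exact hxo ▸ Subgroup.orderOf_dvd_natCard K h
  obtain ⟨U', hU', rfl⟩ := hlift U hU
  obtain ⟨V', hV', rfl⟩ := hlift V hV
  obtain ⟨a, ha⟩ := htrans U' V' hU' hV'
  have hmap : K.map a.toMonoidHom = K :=
    Subgroup.characteristic_iff_map_eq.mp (inferInstance : (Cfsg.pPrimeCore p G).Characteristic) a
  refine ⟨QuotientGroup.congr K K a hmap, ?_⟩
  rw [← ha, Subgroup.map_map, Subgroup.map_map]
  rfl

end CfsgLib.PLengthOne
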