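import Mathlib
import Cfsg.Agent.Lib.Hall.Carter
import Cfsg.Prelude.Def_SolvableStructure

/-!
The shape of the normal Sylow subgroup of a minimal non-nilpotent group.
-/

set_option autoImplicit false
set_option linter.style.haveILetI false
set_option linter.unusedSectionVars false

open scoped commutatorElement

namespace CfsgLib.PLengthOne

open Subgroup (center)

/-- The properties of the normal Sylow subgroup of a minimal non-nilpotent group that are used for
`p`-length one. -/
structure MnnType (p : ℕ) (P : Type*) [Group P] : Prop where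
  comm_mem : ∀ a b : P, ⁅a, b⁆ ∈ center P
  pow_mem : ∀ a : P, a ^ p ∈ center P
  surj : ∀ v : P, v ∉ center P → ∀ z ∈ center P, ∃ w, ⁅v, w⁆ = z
  two : p = 2 → Nat.card P = 8 → ∀ v : P, v ∉ center P → v ^ 2 ≠ 1
  three : p = 3 → Nat.card P = 27 → ∀ v : P, v ∈ center P

theorem mem_center_equiv {P Q : Type*} [Group P] [Group Q] (e : P ≃* Q) (x : P) :
    e x ∈ center Q ↔ x ∈ center P := by
  simp only [Subgroup.mem_center_iff]
  constructor
  · intro h g
    apply e.injective
    rw [map_mul, map_mul, h]
  · intro h g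
    rw [← e.apply_symm_apply g, ← map_mul, h, map_mul]

theorem MnnType.of_equiv {p : ℕ} {P Q : Type*} [Group P] [Group Q] (e : P ≃* Q) (h : MnnType p P) :
    MnnType p Q where
  comm_mem a b := by
    rw [← e.apply_symm_apply a, ← e.apply_symm_apply b, ← map_commutatorElement, mem_center_equiv e]
    exact h.comm_mem _ _
  pow_mem a := by
    rw [← e.apply_symm_apply a, ← map_pow, mem_center_equiv e]
    exact h.pow_mem _
  surj v hv z hz := by
    obtain ⟨w, hw⟩ := h.surj (e.symm v) (fun hc => hv ((mem_center_equiv e.symm v).mp hc))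
      (e.symm z) ((mem_center_equiv e.symm z).mpr hz)
    exact ⟨e w, by rw [← e.apply_symm_apply v, ← map_commutatorElement, hw, e.apply_symm_apply]⟩
  two hp hc v hv h2 := h.two hp ((Nat.card_congr e.toEquiv).trans hc) (e.symm v)
    (fun hc => hv ((mem_center_equiv e.symm v).mp hc)) (by rw [← map_pow, h2, map_one])
  three hp hc v :=
    (mem_center_equiv e.symm v).mp (h.three hp ((Nat.card_congr e.toEquiv).trans hc) _)

/-- A `p`-group with an automorphism of prime order `q ≠ p` centralising every proper invariant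
subgroup. -/
theorem mnnType_of_automorphism {P : Type*} [Group P] [Finite P] {p q : ℕ} [hp : Fact p.Prime]
    [hq : Fact q.Prime] (hqp : q ≠ p) (hP : IsPGroup p P) (φ : MulAut P) (hφ : φ ≠ 1) (hφq : φ ^ q = 1)
    (hinv : ∀ K : Subgroup P, K ≠ ⊤ → (∀ x ∈ K, φ x ∈ K) → ∀ x ∈ K, φ x = x) : MnnType p P := by
  by_cases hab : ∀ v : P, v ∈ center P
  · exact ⟨fun _ _ => hab _, fun _ => hab _, fun v hv => absurd (hab v) hv,
      fun _ _ v hv => absurd (hab v) hv, fun _ _ => hab⟩
  -- the set of the `w⁻¹ φ(w)` generates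
  set M : Subgroup P := Subgroup.closure (Set.range fun w => w⁻¹ * φ w) with hM
  have hMtop : M = ⊤ := by
    by_contra hne
    have hMφ : ∀ x ∈ M, φ x ∈ M := by
      have h1 : M ≤ M.comap φ.toMonoidHom := (Subgroup.closure_le _).mpr (by
        rintro _ ⟨w, rfl⟩
        show φ (w⁻¹ * φ w) ∈ M
        rw [map_mul, map_inv]
        exact Subgroup.subset_closure ⟨φ w, rfl⟩)
      exact fun x hx => h1 hx
    refine hφ (MulEquiv.ext fun w => ?_)
    set c := w⁻¹ * φ w with hc
    have hcφ : φ c = c := hinv M hne hMφ c (Subgroup.subset_closure ⟨w, rfl⟩)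
    have hpow : ∀ k : ℕ, (φ ^ k) w = w * c ^ k := by
      intro k
      induction k with
      | zero => simp
      | succ k ih => rw [pow_succ', MulAut.mul_apply, ih, map_mul, map_pow, hcφ, pow_succ', ← mul_assoc, hc,
          mul_inv_cancel_left]
    have h1 := hpow q
    rw [hφq, MulAut.one_apply, left_eq_mul] at h1
    have hc1 : c = 1 := by
      obtain ⟨k, hk⟩ := hP c
      rw [← orderOf_eq_one_iff]
      exact Nat.eq_one_of_dvd_coprimes (((Nat.coprime_primes hq.out hp.out).mpr hqp).pow_right k)
        (orderOf_dvd_of_pow_eq_one h1) (orderOf_dvd_of_pow_eq_one hk)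
    rw [hc, inv_mul_eq_one] at hc1
    exact hc1.symm
  -- proper invariant normal subgroups are central
  have hcen : ∀ K : Subgroup P, K.Normal → K ≠ ⊤ → (∀ x ∈ K, φ x ∈ K) → K ≤ center P := by
    intro K hK hne hKφ c hc
    have h1 : M ≤ Subgroup.centralizer ({c} : Set P) := (Subgroup.closure_le _).mpr (by
      rintro _ ⟨w, rfl⟩
      show w⁻¹ * φ w ∈ Subgroup.centralizer ({c} : Set P)
      rw [Subgroup.mem_centralizer_singleton_iff]
      have h1 := hinv K hne hKφ _ (hK.conj_mem c hc w)
      rw [map_mul, map_mul, map_inv, hinv K hne hKφ c hc] at h1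
      have h2 : w⁻¹ * φ w * c * (w⁻¹ * φ w)⁻¹ = c := by
        calc w⁻¹ * φ w * c * (w⁻¹ * φ w)⁻¹ = w⁻¹ * (φ w * c * (φ w)⁻¹) * w := by group
          _ = w⁻¹ * (w * c * w⁻¹) * w := by rw [h1]
          _ = c := by group
      exact mul_inv_eq_iff_eq_mul.mp h2)
    rw [hMtop] at h1
    exact Subgroup.mem_center_iff.mpr fun g =>
      Subgroup.mem_centralizer_singleton_iff.mp (h1 (Subgroup.mem_top g))
  haveI : Group.IsNilpotent P := hP.isNilpotent
  set D := commutator P with hD
  have hDne : D ≠ ⊤ := by
    intro h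
    haveI : Nontrivial P := by
      by_contra hs
      rw [not_nontrivial_iff_subsingleton] at hs
      exact hab fun v => Subgroup.mem_center_iff.mpr fun g => Subsingleton.elim _ _
    exact (lt_irrefl _) (h ▸ Group.IsSolvable.commutator_lt_top_of_nontrivial P :
      (⊤ : Subgroup P) < ⊤)
  have hDφ : ∀ x ∈ D, φ x ∈ D := by
    intro x hx
    have h1 := Subgroup.mem_map_of_mem φ.toMonoidHom hx
    rw [Subgroup.characteristic_iff_map_eq.mp (inferInstance : (commutator P).Characteristic) φ] at h1
    exact h1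
  have hDZ : D ≤ center P := hcen D inferInstance hDne hDφ
  have hcm : ∀ a b : P, ⁅a, b⁆ ∈ D := fun a b => by
    rw [hD, commutator_def]
    exact Subgroup.commutator_mem_commutator (Subgroup.mem_top a) (Subgroup.mem_top b)
  have hnormal : ∀ K : Subgroup P, D ≤ K → K.Normal := fun K hK => ⟨fun n hn g => by
    rw [show g * n * g⁻¹ = ⁅g, n⁆ * n by rw [commutatorElement_def]; group]
    exact mul_mem (hK (hcm g n)) hn⟩
  have hZne : center P ≠ ⊤ := fun h => hab fun v => h ▸ Subgroup.mem_top v
  have hZφ : ∀ x ∈ center P, φ x = x :=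
    hinv _ hZne fun x hx => (mem_center_equiv φ x).mpr hx
  -- fixed points lie in the commutator subgroup
  have hfix : ∀ x : P, φ x = x → x ∈ D := by
    have hc : ∀ a b : P ⧸ D, a * b = b * a := fun a b => by
      induction a using QuotientGroup.induction_on with
      | H a =>
        induction b using QuotientGroup.induction_on with
        | H b =>
          rw [← QuotientGroup.mk_mul, ← QuotientGroup.mk_mul, QuotientGroup.eq]
          have := hcm b⁻¹ a⁻¹
          rwa [commutatorElement_def, inv_inv, inv_inv, mul_assoc (b⁻¹ * a⁻¹), ← mul_inv_rev] at this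
    let φb : P ⧸ D →* P ⧸ D := QuotientGroup.map D D φ.toMonoidHom fun x hx => hDφ x hx
    let ψ : P ⧸ D →* P ⧸ D :=
      { toFun := fun a => a⁻¹ * φb a
        map_one' := by simp
        map_mul' := fun a b => by
          show (a * b)⁻¹ * φb (a * b) = a⁻¹ * φb a * (b⁻¹ * φb b)
          rw [map_mul, mul_inv_rev, hc b⁻¹ a⁻¹, mul_assoc, mul_assoc, ← mul_assoc b⁻¹,
            hc b⁻¹ (φb a), mul_assoc] }
    have hψ : Function.Surjective ψ := by
      intro a
      obtain ⟨x, rfl⟩ := QuotientGroup.mk_surjective a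
      have h1 : M ≤ (ψ.range).comap (QuotientGroup.mk' D) := (Subgroup.closure_le _).mpr (by
        rintro _ ⟨w, rfl⟩
        exact ⟨w, rfl⟩)
      exact h1 (hMtop ▸ Subgroup.mem_top x)
    intro x hx
    have h1 : ψ x = ψ 1 := by
      rw [map_one]
      show (x : P ⧸ D)⁻¹ * ((φ x : P) : P ⧸ D) = 1
      rw [hx, inv_mul_cancel]
    exact (QuotientGroup.eq_one_iff x).mp ((Finite.injective_iff_surjective.mpr hψ) h1)
  have hZD : center P ≤ D := fun x hx => hfix x (hZφ x hx)
  -- `[v, P]` is the centre
  have hsurj : ∀ v : P, v ∉ center P → ∀ z ∈ center P, ∃ w, ⁅v, w⁆ = z := by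
    intro v hv z hz
    have hmulr : ∀ a b c : P, ⁅a, b * c⁆ = ⁅a, b⁆ * ⁅a, c⁆ := fun a b c => by
      have h := Subgroup.mem_center_iff.mp (hDZ (hcm a c)) b
      calc ⁅a, b * c⁆ = ⁅a, b⁆ * (b * ⁅a, c⁆ * b⁻¹) := by simp only [commutatorElement_def]; group
        _ = ⁅a, b⁆ * ⁅a, c⁆ := by rw [h, mul_inv_cancel_right]
    let f : P →* P := MonoidHom.mk' (fun w => ⁅v, w⁆) (hmulr v)
    set S := f.range
    have hSZ : S ≤ center P := by
      rintro _ ⟨w, rfl⟩
      exact hDZ (hcm v w)
    let K : Subgroup P :=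
      { carrier := {u | ∀ w, ⁅u, w⁆ ∈ S}
        one_mem' := fun w => by simp
        mul_mem' := fun {a b} ha hb w => by
          have h := Subgroup.mem_center_iff.mp (hDZ (hcm b w)) a
          rw [show ⁅a * b, w⁆ = a * ⁅b, w⁆ * a⁻¹ * ⁅a, w⁆ by simp only [commutatorElement_def]; group,
            h, mul_inv_cancel_right]
          exact mul_mem (hb w) (ha w)
        inv_mem' := fun {a} ha w => by
          have h := Subgroup.mem_center_iff.mp (hDZ (hcm a w)) a
          have h1 : ⁅a⁻¹, w⁆ = a⁻¹ * (⁅a, w⁆)⁻¹ * a := by simp only [commutatorElement_def]; group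
          have h2 : ⁅a, w⁆⁻¹ ∈ S := inv_mem (ha w)
          rw [h1, mul_assoc, ← Subgroup.mem_center_iff.mp (hSZ h2) a, inv_mul_cancel_left]
          exact h2 }
    have hDK : D ≤ K := fun u hu w => by
      rw [commutatorElement_eq_one_iff_mul_comm.mpr (Subgroup.mem_center_iff.mp (hDZ hu) w).symm]
      exact S.one_mem
    have hKφ : ∀ u ∈ K, φ u ∈ K := fun u hu w => by
      have h1 : ⁅φ u, φ (φ.symm w)⁆ = φ ⁅u, φ.symm w⁆ := (map_commutatorElement φ u _).symm
      rw [φ.apply_symm_apply] at h1
      rw [h1, hZφ _ (hDZ (hcm _ _))]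
      exact hu _
    have hKtop : K = ⊤ := by
      by_contra hne
      exact hv (hcen K (hnormal K hDK) hne hKφ (show v ∈ K from fun w => ⟨w, rfl⟩))
    have hDS : D ≤ S := by
      rw [hD, commutator_def, Subgroup.commutator_le]
      intro a _ b _
      exact (hKtop ▸ Subgroup.mem_top a : a ∈ K) b
    exact hDS (hZD hz)
  -- `p`-th powers are central
  have hpow : ∀ a : P, a ^ p ∈ center P := by
    intro a
    set K : Subgroup P := Subgroup.closure (Set.range (fun w : P => w ^ p) ∪ (D : Set P))
    have hDK : D ≤ K := fun x hx => Subgroup.subset_closure (Or.inr hx)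
    have hKφ : ∀ x ∈ K, φ x ∈ K := by
      have h1 : K ≤ K.comap φ.toMonoidHom := (Subgroup.closure_le _).mpr (by
        rintro x (⟨w, rfl⟩ | hx)
        · show φ (w ^ p) ∈ K
          rw [map_pow]
          exact Subgroup.subset_closure (Or.inl ⟨φ w, rfl⟩)
        · exact Subgroup.subset_closure (Or.inr (hDφ x hx)))
      exact fun x hx => h1 hx
    have hKne : K ≠ ⊤ := by
      intro htop
      have hc : ∀ a b : P ⧸ D, a * b = b * a := fun a b => by
        induction a using QuotientGroup.induction_on with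
        | H a =>
          induction b using QuotientGroup.induction_on with
          | H b =>
            rw [← QuotientGroup.mk_mul, ← QuotientGroup.mk_mul, QuotientGroup.eq]
            have := hcm b⁻¹ a⁻¹
            rwa [commutatorElement_def, inv_inv, inv_inv, mul_assoc (b⁻¹ * a⁻¹), ← mul_inv_rev] at this
      letI : CommGroup (P ⧸ D) := { (inferInstance : Group (P ⧸ D)) with mul_comm := hc }
      have hs : Function.Surjective (powMonoidHom p : P ⧸ D →* P ⧸ D) := by
        intro b
        obtain ⟨x, rfl⟩ := QuotientGroup.mk_surjective b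
        have h1 : K ≤ (powMonoidHom p : P ⧸ D →* P ⧸ D).range.comap (QuotientGroup.mk' D) :=
          (Subgroup.closure_le _).mpr (by
            rintro y (⟨w, rfl⟩ | hy)
            · exact ⟨(w : P ⧸ D), rfl⟩
            · exact ⟨1, by
                show (1 : P ⧸ D) ^ p = (y : P ⧸ D)
                rw [one_pow]
                exact ((QuotientGroup.eq_one_iff y).mpr hy).symm⟩)
        exact h1 (htop ▸ Subgroup.mem_top x)
      have hnt : Nontrivial (P ⧸ D) := QuotientGroup.nontrivial_iff.mpr hDne
      obtain ⟨k, hk⟩ := IsPGroup.iff_card.mp (hP.to_quotient D)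
      have hk0 : k ≠ 0 := fun h0 => by
        rw [h0, pow_zero] at hk
        exact (Finite.one_lt_card (α := P ⧸ D)).ne' hk
      obtain ⟨b, hb⟩ := exists_prime_orderOf_dvd_card' (G := P ⧸ D) p (hk ▸ dvd_pow_self p hk0)
      have h1 : (powMonoidHom p : P ⧸ D →* P ⧸ D) b = powMonoidHom p 1 := by
        rw [powMonoidHom_apply, powMonoidHom_apply, one_pow, ← hb, pow_orderOf_eq_one]
      rw [(Finite.injective_iff_surjective.mpr hs) h1, orderOf_one] at hb
      exact hp.out.ne_one hb.symm
    exact hcen K (hnormal K hDK) hKne hKφ (Subgroup.subset_closure (Or.inl ⟨a, rfl⟩))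
  refine ⟨fun a b => hDZ (hcm a b), hpow, hsurj, ?_, ?_⟩
  · -- order 8
    rintro rfl hcard v hv h2
    obtain ⟨zc, hzc, hzc1⟩ : ∃ z ∈ center P, z ≠ 1 := by
      haveI : Nontrivial P := Finite.one_lt_card_iff_nontrivial.mp (by omega)
      haveI := hP.center_nontrivial
      obtain ⟨z, hz⟩ := exists_ne (1 : center P)
      exact ⟨z, z.2, fun h => hz (Subtype.ext h)⟩
    have hcardZ : Nat.card (P ⧸ center P) ≤ 4 := by
      have h1 := Subgroup.card_eq_card_quotient_mul_card_subgroup (center P)
      have h3 : 2 ≤ Nat.card (center P) := by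
        haveI : Nontrivial (center P) := ⟨⟨⟨zc, hzc⟩, 1, fun h => hzc1 (congrArg Subtype.val h)⟩⟩
        exact Finite.one_lt_card
      nlinarith
    have hne : ∀ x : P, x ∉ center P → ((φ x : P) : P ⧸ center P) ≠ x := by
      intro x hx h
      rw [QuotientGroup.eq] at h
      set c := (φ x)⁻¹ * x with hc
      have hcφ : φ c = c := hZφ c h
      have hxc : x = φ x * c := by rw [hc, mul_inv_cancel_left]
      have hpw : ∀ k : ℕ, x = (φ ^ k) x * c ^ k := by
        intro k
        induction k with
        | zero => simp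
        | succ k ih =>
          calc x = φ x * c := hxc
            _ = φ ((φ ^ k) x * c ^ k) * c := by rw [← ih]
            _ = (φ ^ (k + 1)) x * c ^ (k + 1) := by
              rw [map_mul, map_pow, hcφ, pow_succ', MulAut.mul_apply, pow_succ, mul_assoc]
      have h1 := hpw q
      rw [hφq, MulAut.one_apply, left_eq_mul] at h1
      have hc1 : c = 1 := by
        obtain ⟨k, hk⟩ := hP c
        rw [← orderOf_eq_one_iff]
        exact Nat.eq_one_of_dvd_coprimes (((Nat.coprime_primes hq.out hp.out).mpr hqp).pow_right k)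
          (orderOf_dvd_of_pow_eq_one h1) (orderOf_dvd_of_pow_eq_one hk)
      rw [hc1, mul_one] at hxc
      exact hx (hDZ (hfix x hxc.symm))
    have hφv : φ v ∉ center P := fun h => hv ((mem_center_equiv φ v).mp h)
    set π := QuotientGroup.mk' (center P) with hπ
    have hπv : π v ≠ 1 := fun h => hv ((QuotientGroup.eq_one_iff v).mp h)
    have hπφ : π (φ v) ≠ 1 := fun h => hφv ((QuotientGroup.eq_one_iff _).mp h)
    have hvv : π v * π v = 1 := by rw [← map_mul, ← sq, h2, map_one]
    have h12 : π (φ v) ≠ π v := hne v hv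
    have h3 : π (v * φ v) ≠ 1 := by
      rw [map_mul]
      intro h
      exact h12 (mul_left_cancel (h.trans hvv.symm))
    have h31 : π (v * φ v) ≠ π v := by
      rw [map_mul]
      exact fun h => hπφ (mul_eq_left.mp h)
    have h32 : π (v * φ v) ≠ π (φ v) := by
      rw [map_mul]
      exact fun h => hπv (mul_eq_right.mp h)
    -- the four cosets
    haveI := Fintype.ofFinite (P ⧸ center P)
    classical
    have hall : ∀ a : P ⧸ center P, a = 1 ∨ a = π v ∨ a = π (φ v) ∨ a = π (v * φ v) := by
      have hsub : ({1, π v, π (φ v), π (v * φ v)} : Finset (P ⧸ center P)) = Finset.univ := by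
        refine Finset.eq_univ_of_card _ ?_
        have h4 : ({1, π v, π (φ v), π (v * φ v)} : Finset (P ⧸ center P)).card = 4 := by
          rw [Finset.card_insert_of_notMem (by
              simp only [Finset.mem_insert, Finset.mem_singleton, not_or]
              exact ⟨hπv.symm, hπφ.symm, h3.symm⟩),
            Finset.card_insert_of_notMem (by
              simp only [Finset.mem_insert, Finset.mem_singleton, not_or]
              exact ⟨h12.symm, h31.symm⟩),
            Finset.card_insert_of_notMem (by
              simp only [Finset.mem_singleton]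
              exact h32.symm), Finset.card_singleton]
        have := Finset.card_le_univ ({1, π v, π (φ v), π (v * φ v)} : Finset (P ⧸ center P))
        rw [← Nat.card_eq_fintype_card] at this ⊢
        omega
      intro a
      have := Finset.mem_univ a
      rw [← hsub] at this
      simpa using this
    set w := φ (φ v) with hw
    have hwZ : w ∉ center P := fun h => hφv ((mem_center_equiv φ (φ v)).mp h)
    have hww : π w = π (v * φ v) := by
      rcases hall (π w) with h | h | h | h
      · exact absurd ((QuotientGroup.eq_one_iff w).mp h) hwZ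
      · exfalso
        refine hne (v * φ v) (fun h' => h3 ((QuotientGroup.eq_one_iff _).mpr h')) ?_
        show π (φ (v * φ v)) = π (v * φ v)
        rw [map_mul φ, map_mul π, ← hw, h, map_mul π]
        have hc : ⁅v, φ v⁆ ∈ center P := hDZ (hcm v (φ v))
        have h' : π ⁅v, φ v⁆ = 1 := (QuotientGroup.eq_one_iff _).mpr hc
        rw [map_commutatorElement] at h'
        exact (commutatorElement_eq_one_iff_mul_comm.mp h').symm
      · exact absurd h (hne (φ v) hφv)
      · exact h
    obtain ⟨z, hz, hvz⟩ : ∃ z ∈ center P, v * φ v = w * z :=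
      ⟨w⁻¹ * (v * φ v), QuotientGroup.eq.mp hww, by group⟩
    have hw2 : w * w = 1 := by rw [hw, ← map_mul, ← map_mul, ← sq, h2, map_one, map_one]
    have hv' : v * v = 1 := by rw [← sq, h2]
    have hv'' : φ v * φ v = 1 := by rw [← map_mul, hv', map_one]
    have hz2 : z * z = 1 := by
      have hexp : ∀ a b : P, ⁅a, b⁆ ^ 2 = 1 := fun a b => by
        have h1 : ⁅a * a, b⁆ = a * ⁅a, b⁆ * a⁻¹ * ⁅a, b⁆ := by simp only [commutatorElement_def]; group
        rw [Subgroup.mem_center_iff.mp (hDZ (hcm a b)) a, mul_inv_cancel_right, ← sq, ← sq] at h1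
        rw [← h1]
        exact commutatorElement_eq_one_iff_mul_comm.mpr (Subgroup.mem_center_iff.mp (hpow a) b).symm
      obtain ⟨u, hu⟩ := hsurj v hv z hz
      rw [← hu, ← sq]
      exact hexp v u
    have hvz2 : (v * φ v) * (v * φ v) = 1 := by
      rw [hvz]
      calc w * z * (w * z) = w * (z * w) * z := by group
        _ = w * (w * z) * z := by rw [Subgroup.mem_center_iff.mp hz w]
        _ = 1 := by rw [← mul_assoc, hw2, one_mul, hz2]
    have hcv : v * φ v = φ v * v := by
      calc v * φ v = (v * φ v)⁻¹ := (inv_eq_of_mul_eq_one_right hvz2).symm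
        _ = φ v * v := by
          rw [mul_inv_rev, inv_eq_of_mul_eq_one_right hv', inv_eq_of_mul_eq_one_right hv'']
    obtain ⟨u, hu⟩ := hsurj v hv zc hzc
    have hcz : ∀ a b : P, π a = π b → ⁅v, a⁆ = ⁅v, b⁆ := by
      intro a b h
      obtain ⟨e, he, rfl⟩ : ∃ e ∈ center P, b = a * e :=
        ⟨a⁻¹ * b, QuotientGroup.eq.mp h, by group⟩
      have h' := Subgroup.mem_center_iff.mp he v⁻¹
      calc ⁅v, a⁆ = v * a * (v⁻¹ * e) * e⁻¹ * a⁻¹ := by simp only [commutatorElement_def]; group
        _ = v * a * (e * v⁻¹) * e⁻¹ * a⁻¹ := by rw [h']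
        _ = ⁅v, a * e⁆ := by simp only [commutatorElement_def]; group
    apply hzc1
    rw [← hu]
    rcases hall (π u) with h | h | h | h
    · rw [hcz u 1 (h.trans (map_one π).symm), commutatorElement_one_right]
    · rw [hcz u v h, commutatorElement_self]
    · rw [hcz u (φ v) h, commutatorElement_eq_one_iff_mul_comm.mpr hcv]
    · rw [hcz u (v * φ v) h, commutatorElement_eq_one_iff_mul_comm.mpr (by
        rw [mul_assoc, ← hcv])]
  · -- order 27
    rintro rfl hcard
    haveI : Nontrivial P := Finite.one_lt_card_iff_nontrivial.mp (by omega)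
    haveI := hP.center_nontrivial
    have hmul := Subgroup.card_eq_card_quotient_mul_card_subgroup (center P)
    have hcz : 1 < Nat.card (center P) := Finite.one_lt_card
    have hdvd : Nat.card (P ⧸ center P) ∣ 27 := hcard ▸ Subgroup.card_quotient_dvd_card _
    have hq1 : Nat.card (P ⧸ center P) ≠ 1 := fun h => hZne (by
      rw [← Subgroup.index_eq_one]; exact h)
    haveI hcf : ¬ IsCyclic (P ⧸ center P) := fun hc => hab fun v => Subgroup.mem_center_iff.mpr fun g =>
      ((QuotientGroup.mk' (center P)).isMulCommutative_of_isCyclic_of_ker_le_center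
        (by rw [QuotientGroup.ker_mk'])).is_comm.comm g v
    have h9 : Nat.card (P ⧸ center P) = 9 := by
      obtain ⟨k, hk, he⟩ := (Nat.dvd_prime_pow Nat.prime_three).mp (show _ ∣ 3 ^ 3 by simpa using hdvd)
      interval_cases k
      · exact absurd he hq1
      · exact absurd (isCyclic_of_prime_card (p := 3) (by simpa using he)) hcf
      · simpa using he
      · rw [hcard, he] at hmul; omega
    classical
    haveI := Fintype.ofFinite (P ⧸ center P)
    let φb : P ⧸ center P →* P ⧸ center P :=
      QuotientGroup.map _ _ φ.toMonoidHom fun x hx => (mem_center_equiv φ x).mpr hx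
    have hfixb : ∀ a, φb a = a → a = 1 := by
      intro a h
      obtain ⟨x, rfl⟩ := QuotientGroup.mk_surjective a
      have h' : ((φ x : P) : P ⧸ center P) = x := h
      rw [QuotientGroup.eq] at h'
      set c := (φ x)⁻¹ * x with hc
      have hcφ : φ c = c := hZφ c h'
      have hxc : x = φ x * c := by rw [hc, mul_inv_cancel_left]
      have hpw : ∀ k : ℕ, x = (φ ^ k) x * c ^ k := by
        intro k
        induction k with
        | zero => simp
        | succ k ih =>
          calc x = φ x * c := hxc
            _ = φ ((φ ^ k) x * c ^ k) * c := by rw [← ih]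
            _ = (φ ^ (k + 1)) x * c ^ (k + 1) := by
              rw [map_mul, map_pow, hcφ, pow_succ', MulAut.mul_apply, pow_succ, mul_assoc]
      have h1 := hpw q
      rw [hφq, MulAut.one_apply, left_eq_mul] at h1
      have hc1 : c = 1 := by
        obtain ⟨k, hk⟩ := hP c
        rw [← orderOf_eq_one_iff]
        exact Nat.eq_one_of_dvd_coprimes (((Nat.coprime_primes hq.out hp.out).mpr hqp).pow_right k)
          (orderOf_dvd_of_pow_eq_one h1) (orderOf_dvd_of_pow_eq_one hk)
      rw [hc1, mul_one] at hxc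
      exact (QuotientGroup.eq_one_iff x).mpr (hDZ (hfix x hxc.symm))
    have hit : ∀ (k : ℕ) (x : P), (⇑φb)^[k] (x : P ⧸ center P) = (((φ ^ k) x : P) : P ⧸ center P) := by
      intro k
      induction k with
      | zero => intro x; rfl
      | succ k ih => intro x; rw [Function.iterate_succ', Function.comp_apply, ih, pow_succ']; rfl
    have hq2 : q = 2 := by
      let f : Function.End (P ⧸ center P) := ⇑φb
      have hf : f ^ q ^ 1 = 1 := by
        funext a
        obtain ⟨x, rfl⟩ := QuotientGroup.mk_surjective a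
        rw [pow_one]
        show (f ^ q : Function.End (P ⧸ center P)) (x : P ⧸ center P) = _
        rw [hom_coe_pow (fun g : Function.End (P ⧸ center P) => g) rfl (fun g h => rfl) f q]
        show (⇑φb)^[q] (x : P ⧸ center P) = _
        rw [hit, hφq]
        rfl
      have h1 := Equiv.Perm.card_fixedPoints_modEq hf
      rw [← Nat.card_eq_fintype_card, h9, ← Nat.card_eq_fintype_card] at h1
      have h2 : Nat.card (Function.fixedPoints f) = 1 :=
        Nat.card_eq_one_iff_unique.mpr ⟨⟨fun a b => Subtype.ext ((hfixb a.1 a.2).trans (hfixb b.1 b.2).symm)⟩,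
          ⟨⟨1, map_one φb⟩⟩⟩
      rw [h2] at h1
      have h8 : q ∣ 8 := (Nat.modEq_iff_dvd' (by norm_num)).mp h1.symm
      exact (Nat.prime_dvd_prime_iff_eq hq.out Nat.prime_two).mp
        (hq.out.dvd_of_dvd_pow (show q ∣ 2 ^ 3 by simpa using h8))
    subst hq2
    intro v
    by_contra hv
    -- inversion modulo the centre
    have hinvv : v * φ v ∈ center P := by
      have hc : ⁅φ v, v⁆ ∈ center P := hDZ (hcm _ _)
      apply (QuotientGroup.eq_one_iff _).mp
      apply hfixb
      show ((φ (v * φ v) : P) : P ⧸ center P) = ((v * φ v : P) : P ⧸ center P)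
      have hsq : φ (φ v) = v := by rw [← MulAut.mul_apply, ← pow_two, hφq, MulAut.one_apply]
      rw [map_mul, hsq, QuotientGroup.eq]
      have := hDZ (hcm v⁻¹ (φ v)⁻¹)
      rwa [commutatorElement_def, inv_inv, inv_inv, mul_assoc (v⁻¹ * (φ v)⁻¹), ← mul_inv_rev] at this
    set K : Subgroup P := center P ⊔ Subgroup.zpowers v with hK
    have hKne : K ≠ ⊤ := by
      intro htop
      refine hv (Subgroup.mem_center_iff.mpr fun g => ?_)
      have hle : K ≤ Subgroup.centralizer ({v} : Set P) := sup_le
        (fun x hx => Subgroup.mem_centralizer_singleton_iff.mpr (Subgroup.mem_center_iff.mp hx v).symm)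
        (Subgroup.zpowers_le.mpr (Subgroup.mem_centralizer_singleton_iff.mpr rfl))
      exact Subgroup.mem_centralizer_singleton_iff.mp (hle (htop ▸ Subgroup.mem_top g))
    have hKφ : ∀ x ∈ K, φ x ∈ K := by
      have h1 : K ≤ K.comap φ.toMonoidHom := sup_le
        (fun x hx => Subgroup.mem_sup_left ((mem_center_equiv φ x).mpr hx))
        (Subgroup.zpowers_le.mpr (by
          show φ v ∈ K
          rw [show φ v = v⁻¹ * (v * φ v) by group]
          exact mul_mem (inv_mem (Subgroup.mem_sup_right (Subgroup.mem_zpowers v)))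
            (Subgroup.mem_sup_left hinvv)))
      exact fun x hx => h1 hx
    exact hv (hDZ (hfix v (hinv K hKne hKφ v (Subgroup.mem_sup_right (Subgroup.mem_zpowers v)))))

theorem mnnType_of_isMinimalNonNilpotent {X : Type*} [Group X] [Finite X] {p : ℕ} [hp : Fact p.Prime]
    (hX : Cfsg.IsMinimalNonNilpotent X) (P : Sylow p X) (hPn : (P : Subgroup X).Normal)
    (hP1 : (P : Subgroup X) ≠ ⊥) : MnnType p (P : Subgroup X) := by
  haveI := hPn
  obtain ⟨R, hR⟩ := Subgroup.exists_right_complement'_of_coprime (N := (P : Subgroup X)) (by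
    obtain ⟨e, he⟩ := IsPGroup.iff_card.mp P.2
    rw [he]
    exact ((hp.out.coprime_iff_not_dvd).mpr P.not_dvd_index).pow_left e)
  have hRp : (Nat.card R).Coprime p := by
    rw [← hR.symm.index_eq_card]
    exact (hp.out.coprime_iff_not_dvd.mpr P.not_dvd_index).symm
  have hRtop : R ≠ ⊤ := fun h => hP1 (Subgroup.isComplement'_top_right.mp (h ▸ hR))
  obtain ⟨r, hrR, hr⟩ : ∃ r ∈ R, (MulAut.conjNormal r : MulAut (P : Subgroup X)) ≠ 1 := by
    by_contra hall
    push Not at hall
    haveI := hX.2 R hRtop
    haveI : Group.IsNilpotent (P : Subgroup X) := P.2.isNilpotent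
    have hcomm : ∀ (x : (P : Subgroup X)) (r : R), Commute (x : X) (r : X) := fun x r => by
      have h1 := congrArg (fun e : MulAut (P : Subgroup X) => ((e x : (P : Subgroup X)) : X)) (hall r r.2)
      simp only [MulAut.conjNormal_apply, MulAut.one_apply] at h1
      exact (mul_inv_eq_iff_eq_mul.mp h1).symm
    refine hX.1 (Group.nilpotent_of_surjective
      (MonoidHom.noncommCoprod (P : Subgroup X).subtype R.subtype fun x r => hcomm x r) ?_)
    intro g
    obtain ⟨⟨a, b⟩, hab⟩ := hR.2 g
    exact ⟨(a, b), hab⟩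
  set φr : MulAut (P : Subgroup X) := MulAut.conjNormal r
  obtain ⟨q, hq, hqd⟩ := Nat.exists_prime_and_dvd (fun h => hr (orderOf_eq_one_iff.mp h))
  haveI := Fact.mk hq
  set y := r ^ (orderOf φr / q) with hy
  have hyR : y ∈ R := pow_mem hrR _
  set φ : MulAut (P : Subgroup X) := MulAut.conjNormal y with hφ
  have hφo : orderOf φ = q := by
    rw [hφ, hy, map_pow]
    exact orderOf_pow_orderOf_div (orderOf_pos _).ne' hqd
  have hqp : q ≠ p := by
    rintro rfl
    exact hq.ne_one ((Nat.coprime_self q).mp (hRp.coprime_dvd_left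
      ((hqd.trans (orderOf_map_dvd _ r)).trans (Subgroup.orderOf_dvd_natCard _ hrR))))
  have hyo : (orderOf y).Coprime p := hRp.coprime_dvd_left (Subgroup.orderOf_dvd_natCard _ hyR)
  refine mnnType_of_automorphism hqp P.2 φ (fun h => by rw [h, orderOf_one] at hφo; exact hq.ne_one hφo.symm)
    (hφo ▸ pow_orderOf_eq_one φ) fun K hK hKφ x hx => ?_
  set K' := K.map (P : Subgroup X).subtype
  have hnorm : Subgroup.zpowers y ≤ Subgroup.normalizer (K' : Set X) := by
    rw [Subgroup.zpowers_le]
    refine Subgroup.mem_normalizer_fintype ?_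
    rintro _ ⟨k, hk, rfl⟩
    exact ⟨φ k, hKφ k hk, MulAut.conjNormal_apply y k⟩
  have hne : K' ⊔ Subgroup.zpowers y ≠ ⊤ := by
    intro htop
    refine hK (eq_top_iff.mpr fun u _ => ?_)
    have hu : (u : X) ∈ (↑(K' ⊔ Subgroup.zpowers y) : Set X) := htop ▸ Subgroup.mem_top _
    rw [Subgroup.coe_mul_of_right_le_normalizer_left _ _ hnorm] at hu
    obtain ⟨_, ⟨k, hk, rfl⟩, c, hc, hkc⟩ := Set.mem_mul.mp hu
    have hkc' : (k : X) * c = u := hkc
    have hcP : c ∈ (P : Subgroup X) := by
      rw [show c = (k : X)⁻¹ * u by rw [← hkc', inv_mul_cancel_left]]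
      exact mul_mem (inv_mem k.2) u.2
    have hc1 : c = 1 := by
      rw [← orderOf_eq_one_iff]
      obtain ⟨i, hi⟩ := P.2 ⟨c, hcP⟩
      exact Nat.eq_one_of_dvd_coprimes (hyo.pow_right i)
        ((Subgroup.orderOf_dvd_natCard _ hc).trans (Nat.card_zpowers y).dvd)
        (orderOf_dvd_of_pow_eq_one (congrArg Subtype.val hi))
    rw [hc1, mul_one] at hkc'
    exact Subtype.ext hkc' ▸ hk
  haveI := hX.2 _ hne
  obtain ⟨j, hj⟩ := P.2 x
  have hcom := CfsgLib.Hall.commute_of_coprime_orderOf
    (G := (K' ⊔ Subgroup.zpowers y : Subgroup X)) (p := p) (j := j)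
    (x := ⟨(x : X), Subgroup.mem_sup_left (Subgroup.mem_map_of_mem _ hx)⟩)
    (y := ⟨y, Subgroup.mem_sup_right (Subgroup.mem_zpowers y)⟩)
    (by rw [← Subgroup.orderOf_coe]; exact orderOf_dvd_of_pow_eq_one (congrArg Subtype.val hj))
    (by rw [← Subgroup.orderOf_coe]; exact hyo)
  have hcom' : (x : X) * y = y * x := congrArg Subtype.val hcom
  apply Subtype.ext
  rw [MulAut.conjNormal_apply, ← hcom', mul_inv_cancel_right]

end CfsgLib.PLengthOne
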