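import Mathlib
import Cfsg.Agent.Lib.PLengthOne.MinimalNilType
import Cfsg.Agent.Lib.PSolvable.Core
import Cfsg.Agent.Lib.TI.FaithfulDegree
import Cfsg.Agent.Lib.Coprime.Generation
import Cfsg.Agent.Lib.Quadratic.Groups
import Cfsg.Agent.Lib.Blocks.PrincipalPSolvable

/-!
`p`-length one when a Sylow subgroup is of minimal non-nilpotent type.
-/

set_option autoImplicit false
set_option linter.style.haveILetI false
set_option linter.unusedSectionVars false

open scoped commutatorElement Pointwise IsMulCommutative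

namespace CfsgLib.PLengthOne

variable {G : Type*} [Group G] [Finite G] {p : ℕ} [hp : Fact p.Prime]

/-- Hyperplanes: outside the `p`-core there is a conjugate of `P` meeting it in a subgroup of
index at most `p`. -/
theorem exists_conj_inter (hG : Cfsg.IsPSolvable p G) (P : Sylow p G)
    (hcomm : ∀ a ∈ (P : Subgroup G), ∀ b ∈ (P : Subgroup G), ⁅a, b⁆ ∈ Cfsg.pCore p G)
    (hpow : ∀ a ∈ (P : Subgroup G), a ^ p ∈ Cfsg.pCore p G)
    (hne : ¬ (P : Subgroup G) ≤ Cfsg.pCore p G) :
    ∃ g : G, g ∉ Subgroup.normalizer ((P : Subgroup G) : Set G) ∧ ∃ D : Subgroup G,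
      Cfsg.pCore p G ≤ D ∧ D ≤ (P : Subgroup G) ∧ (∀ d ∈ D, g⁻¹ * d * g ∈ (P : Subgroup G)) ∧
        D.relIndex (P : Subgroup G) ≤ p := by
  set V := Cfsg.pCore p G with hV
  haveI : V.Normal := CfsgLib.Fitting.pCore_normal p
  have hVP : V ≤ (P : Subgroup G) :=
    (Fitting.pCore_eq_iInf_sylow (G := G) p).le.trans (iInf_le _ P)
  set π := QuotientGroup.mk' V with hπ
  have hπs : Function.Surjective π := QuotientGroup.mk'_surjective V
  set A : Subgroup (G ⧸ V) := (P : Subgroup G).map π with hA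
  have hcomapA : A.comap π = (P : Subgroup G) := by
    rw [hA, Subgroup.comap_map_eq, hπ, QuotientGroup.ker_mk', sup_eq_left.mpr hVP]
  have hAcomm : IsMulCommutative A := ⟨⟨by
    rintro ⟨_, a, ha, rfl⟩ ⟨_, b, hb, rfl⟩
    apply Subtype.ext
    show π a * π b = π b * π a
    rw [← commutatorElement_eq_one_iff_mul_comm, ← map_commutatorElement]
    exact (QuotientGroup.eq_one_iff _).mpr (hcomm a ha b hb)⟩⟩
  have hAexp : ∀ a ∈ A, a ^ p = 1 := by
    rintro _ ⟨a, ha, rfl⟩
    rw [← map_pow]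
    exact (QuotientGroup.eq_one_iff _).mpr (hpow a ha)
  have hAne : A ≠ ⊥ := by
    intro h
    exact hne fun x hx => (QuotientGroup.eq_one_iff x).mp
      (Subgroup.mem_bot.mp (h ▸ Subgroup.mem_map_of_mem π hx))
  have hO : Cfsg.pCore p (G ⧸ V) = ⊥ := by
    haveI := CfsgLib.Fitting.pCore_normal (G := G ⧸ V) p
    have hle : (Cfsg.pCore p (G ⧸ V)).comap π ≤ V :=
      CfsgLib.Fitting.le_pCore inferInstance ((CfsgLib.Fitting.pCore_isPGroup p).comap_of_ker_isPGroup _
        (by rw [hπ, QuotientGroup.ker_mk']; exact CfsgLib.Fitting.pCore_isPGroup p))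
    rw [eq_bot_iff]
    intro q hq
    obtain ⟨g, rfl⟩ := QuotientGroup.mk_surjective q
    exact Subgroup.mem_bot.mpr ((QuotientGroup.eq_one_iff g).mpr (hle hq))
  haveI := CfsgLib.Transfer.pPrimeCore_normal p (G ⧸ V)
  set L := Cfsg.pPrimeCore p (G ⧸ V) with hL
  have hCL : Subgroup.centralizer (L : Set (G ⧸ V)) ≤ L :=
    TIDegree.centralizer_pPrimeCore_le (PSolvable.isPSolvable_of_surjective π hπs hG) hO
  have hAp : IsPGroup p A := P.2.map π
  have hcopA : (Nat.card A).Coprime (Nat.card L) :=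
    PSolvable.coprime_card_of_isPGroup hAp (CfsgLib.Transfer.pPrimeCore_coprime p)
  obtain ⟨B, hBA, hBidx, x, hxB, hxN⟩ : ∃ B ≤ A, B.relIndex A ≤ p ∧ ∃ x : G ⧸ V,
      x ∈ Subgroup.centralizer (B : Set (G ⧸ V)) ∧ x ∉ Subgroup.normalizer (A : Set (G ⧸ V)) := by
    have hnot : ¬ L ≤ Subgroup.normalizer (A : Set (G ⧸ V)) := by
      intro hle
      refine hAne ((Subgroup.eq_bot_iff_forall A).mpr fun a ha => ?_)
      have hdis : A ⊓ L = ⊥ := (Subgroup.disjoint_of_coprime_natCard hcopA).eq_bot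
      have haC : a ∈ Subgroup.centralizer (L : Set (G ⧸ V)) := Subgroup.mem_centralizer_iff.mpr
        fun l hl => by
          have h1 : ⁅l, a⁆ ∈ A ⊓ L := by
            refine Subgroup.mem_inf.mpr ⟨?_, ?_⟩
            · exact mul_mem ((Subgroup.mem_normalizer_iff.mp (hle hl) a).mp ha) (inv_mem ha)
            · rw [commutatorElement_def, mul_assoc, mul_assoc, ← mul_assoc a]
              exact mul_mem hl ((inferInstance : L.Normal).conj_mem _ (inv_mem hl) a)
          rw [hdis, Subgroup.mem_bot, commutatorElement_eq_one_iff_mul_comm] at h1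
          exact h1
      have : a ∈ A ⊓ L := ⟨ha, hCL haC⟩
      rwa [hdis, Subgroup.mem_bot] at this
    by_cases hbig : p ^ 2 ≤ Nat.card A
    · by_contra hall
      push Not at hall
      exact hnot (CfsgLib.Coprime.le_of_hyperplane_centralizer_le hAcomm hAexp hbig
        Subgroup.le_normalizer_of_normal hcopA fun B hB hBi x hx => hall B hB hBi x (Subgroup.mem_inf.mp hx).2)
    · obtain ⟨x, hx, hxN⟩ := SetLike.not_le_iff_exists.mp hnot
      refine ⟨⊥, bot_le, ?_, x, Subgroup.mem_centralizer_iff.mpr fun b hb => ?_, hxN⟩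
      · rw [Subgroup.relIndex_bot_left]
        obtain ⟨k, hk⟩ := IsPGroup.iff_card.mp hAp
        rw [hk] at hbig ⊢
        have : k < 2 := by
          by_contra hc
          exact hbig (Nat.pow_le_pow_right hp.out.pos (by omega))
        calc p ^ k ≤ p ^ 1 := Nat.pow_le_pow_right hp.out.pos (by omega)
          _ = p := pow_one p
      · rw [Subgroup.coe_bot, Set.mem_singleton_iff] at hb
        rw [hb, one_mul, mul_one]
  obtain ⟨g, rfl⟩ := hπs x
  refine ⟨g, fun hg => hxN (Subgroup.le_normalizer_map π ⟨g, hg, rfl⟩), B.comap π, ?_, ?_, ?_, ?_⟩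
  · intro v hv
    rw [Subgroup.mem_comap, hπ, QuotientGroup.mk'_apply, (QuotientGroup.eq_one_iff v).mpr hv]
    exact one_mem _
  · exact (Subgroup.comap_mono hBA).trans hcomapA.le
  · intro d hd
    rw [← hcomapA, Subgroup.mem_comap, map_mul, map_mul, map_inv,
      mul_assoc, Subgroup.mem_centralizer_iff.mp hxB (π d) hd, inv_mul_cancel_left]
    exact hBA hd
  · rw [Subgroup.relIndex_comap]
    exact hBidx

/-- The reduced case. -/
theorem sylow_le_pCore (hG : Cfsg.IsPSolvable p G) (hO : Cfsg.pPrimeCore p G = ⊥) (P : Sylow p G)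
    (hT : MnnType p (P : Subgroup G)) : (P : Subgroup G) ≤ Cfsg.pCore p G := by
  have hC := PSolvable.centralizer_pCore_le hG hO
  set V := Cfsg.pCore p G with hV
  haveI hVn : V.Normal := CfsgLib.Fitting.pCore_normal p
  have hVP : V ≤ (P : Subgroup G) :=
    (Fitting.pCore_eq_iInf_sylow (G := G) p).le.trans (iInf_le _ P)
  set Z : Subgroup G := (Subgroup.center (P : Subgroup G)).map (P : Subgroup G).subtype with hZ
  have hZP : Z ≤ (P : Subgroup G) := Subgroup.map_subtype_le _
  have hZc : ∀ z ∈ Z, ∀ x ∈ (P : Subgroup G), x * z = z * x := by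
    rintro _ ⟨z, hz, rfl⟩ x hx
    exact congrArg Subtype.val (Subgroup.mem_center_iff.mp hz ⟨x, hx⟩)
  have hZmem : ∀ z : (P : Subgroup G), (z : G) ∈ Z ↔ z ∈ Subgroup.center (P : Subgroup G) := fun z =>
    ⟨fun ⟨w, hw, he⟩ => Subtype.ext he ▸ hw, fun h => ⟨z, h, rfl⟩⟩
  have hZV : Z ≤ V := fun z hz => hC (Subgroup.mem_centralizer_iff.mpr fun v hv => hZc z hz v (hVP hv))
  have hcm : ∀ a ∈ (P : Subgroup G), ∀ b ∈ (P : Subgroup G), ⁅a, b⁆ ∈ Z := fun a ha b hb =>
    ⟨⁅⟨a, ha⟩, ⟨b, hb⟩⁆, hT.comm_mem _ _, rfl⟩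
  have hpw : ∀ a ∈ (P : Subgroup G), a ^ p ∈ Z := fun a ha => ⟨(⟨a, ha⟩ : (P : Subgroup G)) ^ p, hT.pow_mem _, rfl⟩
  by_contra hne
  -- conjugation fixing the centre normalises `P`
  have lemA : ∀ g : G, g ∈ Subgroup.normalizer (Z : Set G) →
      g ∈ Subgroup.normalizer ((P : Subgroup G) : Set G) := by
    intro g hg
    have hgZ := Subgroup.mem_normalizer_iff.mp hg
    set S₀ : Set G := {s | (∀ z ∈ Z, s * z = z * s) ∧ ∀ v ∈ V, ⁅s, v⁆ ∈ Z}
    let S : Subgroup G :=
      { carrier := S₀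
        one_mem' := ⟨fun z _ => by rw [one_mul, mul_one], fun v _ => by simp⟩
        mul_mem' := fun {a b} ha hb => ⟨fun z hz => by
            rw [mul_assoc, hb.1 z hz, ← mul_assoc, ha.1 z hz, mul_assoc], fun v hv => by
            rw [show ⁅a * b, v⁆ = a * ⁅b, v⁆ * a⁻¹ * ⁅a, v⁆ by simp only [commutatorElement_def]; group,
              ha.1 _ (hb.2 v hv), mul_inv_cancel_right]
            exact mul_mem (hb.2 v hv) (ha.2 v hv)⟩
        inv_mem' := fun {a} ha => by
          have hinv : ∀ z ∈ Z, a⁻¹ * z = z * a⁻¹ := fun z hz =>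
            ((show Commute a z from ha.1 z hz).inv_left).eq
          refine ⟨hinv, fun v hv => ?_⟩
          have h1 : ⁅a⁻¹, v⁆ = a⁻¹ * ⁅a, v⁆⁻¹ * a := by simp only [commutatorElement_def]; group
          rw [h1, hinv _ (inv_mem (ha.2 v hv)), inv_mul_cancel_right]
          exact inv_mem (ha.2 v hv) }
    have hPS : (P : Subgroup G) ≤ S := fun s hs =>
      ⟨fun z hz => hZc z hz s hs, fun v hv => hcm s hs v (hVP hv)⟩
    have hSp : IsPGroup p S := by
      apply PSolvable.isPGroup_of_forall_coprime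
      intro s hs hso
      have hsC : s ∈ Subgroup.centralizer (V : Set G) := Subgroup.mem_centralizer_iff.mpr fun v hv => by
        set c := ⁅s, v⁆ with hc
        have hcZ : c ∈ Z := hs.2 v hv
        have hsv : s * v * s⁻¹ = c * v := by rw [hc, commutatorElement_def]; group
        have hpk : ∀ k : ℕ, s ^ k * v * (s ^ k)⁻¹ = c ^ k * v := by
          intro k
          induction k with
          | zero => simp
          | succ k ih =>
            have hsc : Commute s (c ^ k) := (show Commute s c from hs.1 c hcZ).pow_right k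
            calc s ^ (k + 1) * v * (s ^ (k + 1))⁻¹ = s * (s ^ k * v * (s ^ k)⁻¹) * s⁻¹ := by
                  rw [pow_succ']; group
              _ = (s * c ^ k) * v * s⁻¹ := by rw [ih]; group
              _ = c ^ k * (s * v * s⁻¹) := by rw [hsc.eq]; group
              _ = c ^ (k + 1) * v := by rw [hsv, pow_succ, mul_assoc]
        have h1 := hpk (orderOf s)
        rw [pow_orderOf_eq_one, one_mul, inv_one, mul_one] at h1
        have hcp : c ^ orderOf s = 1 := mul_eq_right.mp h1.symm
        obtain ⟨k, hk⟩ := P.2 ⟨c, hZP hcZ⟩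
        have hc1 : c = 1 := orderOf_eq_one_iff.mp (Nat.eq_one_of_dvd_coprimes (hso.pow_right k)
          (orderOf_dvd_of_pow_eq_one hcp) (orderOf_dvd_of_pow_eq_one (congrArg Subtype.val hk)))
        rw [hc] at hc1
        exact (commutatorElement_eq_one_iff_mul_comm.mp hc1).symm
      obtain ⟨k, hk⟩ := P.2 ⟨s, hVP (hC hsC)⟩
      exact orderOf_eq_one_iff.mp (Nat.eq_one_of_dvd_coprimes (hso.pow_right k) dvd_rfl
        (orderOf_dvd_of_pow_eq_one (congrArg Subtype.val hk)))
    have hSeq : S = (P : Subgroup G) := P.is_maximal' hSp hPS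
    refine Subgroup.mem_normalizer_fintype fun x hx => ?_
    show g * x * g⁻¹ ∈ (P : Subgroup G)
    rw [← hSeq]
    refine ⟨fun z hz => ?_, fun v hv => ?_⟩
    · have hz' : g⁻¹ * z * g ∈ Z := by
        rw [hgZ]; simpa [mul_assoc] using hz
      calc g * x * g⁻¹ * z = g * (x * (g⁻¹ * z * g)) * g⁻¹ := by group
        _ = g * ((g⁻¹ * z * g) * x) * g⁻¹ := by rw [hZc _ hz' x hx]
        _ = z * (g * x * g⁻¹) := by group
    · have hv' : g⁻¹ * v * g ∈ V := by
        simpa using hVn.conj_mem v hv g⁻¹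
      have h1 : g * ⁅x, g⁻¹ * v * g⁆ * g⁻¹ ∈ Z := (hgZ _).mp (hcm x hx _ (hVP hv'))
      rw [show ⁅g * x * g⁻¹, v⁆ = g * ⁅x, g⁻¹ * v * g⁆ * g⁻¹ by simp only [commutatorElement_def]; group]
      exact h1
  obtain ⟨g, hg, D, hVD, hDP, hDg, hDidx⟩ := exists_conj_inter hG P
    (fun a ha b hb => hZV (hcm a ha b hb)) (fun a ha => hZV (hpw a ha)) hne
  have hgN : g ∉ Subgroup.normalizer (Z : Set G) := fun h => hg (lemA g h)
  obtain ⟨z₀, hz₀, huZ⟩ : ∃ z₀ ∈ Z, g * z₀ * g⁻¹ ∉ Z := by
    by_contra hall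
    push Not at hall
    exact hgN (Subgroup.mem_normalizer_fintype fun x hx => hall x hx)
  set u := g * z₀ * g⁻¹ with hu
  have huV : u ∈ V := hVn.conj_mem _ (hZV hz₀) g
  have huD : ∀ d ∈ D, d * u = u * d := by
    intro d hd
    have h1 := hZc z₀ hz₀ _ (hDg d hd)
    calc d * u = g * (g⁻¹ * d * g * z₀) * g⁻¹ := by rw [hu]; group
      _ = g * (z₀ * (g⁻¹ * d * g)) * g⁻¹ := by rw [h1]
      _ = u * d := by rw [hu]; group
  -- the centre has order `p`
  have huc : (⟨u, hVP huV⟩ : (P : Subgroup G)) ∉ Subgroup.center (P : Subgroup G) :=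
    fun h => huZ ((hZmem _).mpr h)
  set Ps := (P : Subgroup G)
  let uu : Ps := ⟨u, hVP huV⟩
  have hmulr : ∀ a b c : Ps, ⁅a, b * c⁆ = ⁅a, b⁆ * ⁅a, c⁆ := fun a b c => by
    have h := Subgroup.mem_center_iff.mp (hT.comm_mem a c) b
    calc ⁅a, b * c⁆ = ⁅a, b⁆ * (b * ⁅a, c⁆ * b⁻¹) := by simp only [commutatorElement_def]; group
      _ = ⁅a, b⁆ * ⁅a, c⁆ := by rw [h, mul_inv_cancel_right]
  let f : Ps →* Ps := MonoidHom.mk' (fun w => ⁅uu, w⁆) (hmulr uu)
  have hfr : f.range = Subgroup.center Ps := le_antisymm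
    (by rintro _ ⟨w, rfl⟩; exact hT.comm_mem _ _) (fun z hz => by
      obtain ⟨w, hw⟩ := hT.surj uu huc z hz
      exact ⟨w, hw⟩)
  have hfk : D.subgroupOf Ps ≤ f.ker := fun d hd => by
    show ⁅uu, d⁆ = 1
    exact commutatorElement_eq_one_iff_mul_comm.mpr (Subtype.ext (huD d hd).symm)
  have hZcard : Nat.card Z ≤ p := by
    have h1 : Nat.card Z = Nat.card (Subgroup.center Ps) :=
      Subgroup.card_map_of_injective Ps.subtype_injective
    rw [h1, ← hfr, ← Subgroup.index_ker]
    exact (Nat.le_of_dvd (Nat.pos_of_ne_zero Subgroup.FiniteIndex.index_ne_zero)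
      (Subgroup.index_dvd_of_le hfk)).trans hDidx
  have hint : ∀ x ∈ Z, g⁻¹ * x * g ∈ Z → x = 1 := by
    intro x hx hx'
    by_contra hx1
    obtain ⟨k, hk⟩ := IsPGroup.iff_card.mp (P.2.to_le hZP)
    have hk1 : k = 1 := by
      have hlt : 1 < p ^ k := by
        haveI : Nontrivial Z := ⟨⟨⟨x, hx⟩, 1, fun h => hx1 (congrArg Subtype.val h)⟩⟩
        rw [← hk]
        exact Finite.one_lt_card
      have hle : p ^ k ≤ p ^ 1 := by rw [pow_one, ← hk]; exact hZcard
      have := (Nat.pow_le_pow_iff_right hp.out.one_lt).mp hle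
      rcases Nat.eq_zero_or_pos k with rfl | h
      · simp at hlt
      · omega
    haveI : Fact (Nat.card Z).Prime := ⟨by rw [hk, hk1, pow_one]; exact hp.out⟩
    let W : Subgroup G := Z ⊓ Z.comap (MulAut.conj g⁻¹).toMonoidHom
    have hxW : x ∈ W := ⟨hx, by simpa using hx'⟩
    rcases (W.subgroupOf Z).eq_bot_or_eq_top_of_prime_card with h | h
    · have : (⟨x, hx⟩ : Z) ∈ W.subgroupOf Z := hxW
      rw [h, Subgroup.mem_bot] at this
      exact hx1 (congrArg Subtype.val this)
    · refine hgN ((inv_mem_iff).mp ?_)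
      refine Subgroup.mem_normalizer_fintype fun y hy => ?_
      have := (Subgroup.subgroupOf_eq_top.mp h hy).2
      simpa using this
  have hD2 : ∀ d ∈ D, ∀ v ∈ V, d * v = v * d := by
    intro d hd v hv
    apply commutatorElement_eq_one_iff_mul_comm.mp
    apply hint _ (hcm d (hDP hd) v (hVP hv))
    rw [show g⁻¹ * ⁅d, v⁆ * g = ⁅g⁻¹ * d * g, g⁻¹ * v * g⁆ by simp only [commutatorElement_def]; group]
    exact hcm _ (hDg d hd) _ (hVP (by simpa using hVn.conj_mem v hv g⁻¹))
  have hVc : ∀ a ∈ V, ∀ b ∈ V, a * b = b * a := fun a ha b hb => hD2 a (hVD ha) b hb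
  have hVexp : ∀ v ∈ V, v ^ p = 1 := by
    intro v hv
    apply hint _ (hpw v (hVP hv))
    rw [show g⁻¹ * v ^ p * g = (g⁻¹ * v * g) ^ p by
      rw [show g⁻¹ * v * g = g⁻¹ * v * g⁻¹⁻¹ by rw [inv_inv], conj_pow, inv_inv]]
    exact hpw _ (hVP (by simpa using hVn.conj_mem v hv g⁻¹))
  by_cases hp5 : 5 ≤ p
  · -- two transvection groups
    haveI : IsMulCommutative V := ⟨⟨fun a b => Subtype.ext (hVc a a.2 b b.2)⟩⟩
    set ψ := (Quadratic.act V ⊤ Subgroup.le_normalizer_of_normal).comp
      (Subgroup.topEquiv (G := G)).symm.toMonoidHom with hψ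
    have hker : ψ.ker = V := by
      ext x
      rw [MonoidHom.mem_ker, hψ]
      show Quadratic.act V ⊤ Subgroup.le_normalizer_of_normal ⟨x, Subgroup.mem_top x⟩ = 1 ↔ _
      rw [Quadratic.act_eq_one_iff]
      exact ⟨fun h => hC h, fun h => Subgroup.mem_centralizer_iff.mpr fun y hy => hVc y hy x h⟩
    let φ : G ⧸ V →* AddMonoid.End (Additive V) := QuotientGroup.lift V ψ hker.ge
    have hφ : Function.Injective φ := by
      rw [← MonoidHom.ker_eq_bot_iff, QuotientGroup.ker_lift, hker, QuotientGroup.map_mk'_self]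
    have hO' : Cfsg.pCore p (G ⧸ V) = ⊥ := by
      haveI := CfsgLib.Fitting.pCore_normal (G := G ⧸ V) p
      have hle : (Cfsg.pCore p (G ⧸ V)).comap (QuotientGroup.mk' V) ≤ V :=
        CfsgLib.Fitting.le_pCore inferInstance ((CfsgLib.Fitting.pCore_isPGroup p).comap_of_ker_isPGroup _
          (by rw [QuotientGroup.ker_mk']; exact CfsgLib.Fitting.pCore_isPGroup p))
      rw [eq_bot_iff]
      intro q hq
      obtain ⟨g, rfl⟩ := QuotientGroup.mk_surjective q
      exact Subgroup.mem_bot.mpr ((QuotientGroup.eq_one_iff g).mpr (hle hq))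
    refine hne fun a ha => (QuotientGroup.eq_one_iff a).mp ?_
    have h1 := Quadratic.mem_pCore_of_isPSolvable hp5
      (PSolvable.isPSolvable_of_surjective _ (QuotientGroup.mk'_surjective V) hG)
      (Quadratic.act_nsmul ⟨inferInstance, hVexp⟩) φ hφ (a := (a : G ⧸ V)) (by
        show (ψ a - 1) * (ψ a - 1) = 0
        exact Quadratic.act_quadratic V ⊤ Subgroup.le_normalizer_of_normal
          (a := ⟨a, Subgroup.mem_top a⟩) (by
            have hle : ⁅V, Subgroup.zpowers a⁆ ≤ Z := Subgroup.commutator_le.mpr fun v hv c hc =>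
              hcm v (hVP hv) c (Subgroup.zpowers_le.mpr ha hc)
            rw [eq_bot_iff]
            refine (Subgroup.commutator_mono hle le_rfl).trans (Subgroup.commutator_le.mpr fun z hz c hc => ?_)
            exact Subgroup.mem_bot.mpr (commutatorElement_eq_one_iff_mul_comm.mpr
              (hZc z hz c (Subgroup.zpowers_le.mpr ha hc)).symm)))
    rw [hO', Subgroup.mem_bot] at h1
    exact h1
  · -- small primes: the order is `p ^ 3`
    have hDV : D = V := le_antisymm (fun d hd => hC (Subgroup.mem_centralizer_iff.mpr fun v hv =>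
      (hD2 d hd v hv).symm)) hVD
    obtain ⟨a, ha, haV⟩ := SetLike.not_le_iff_exists.mp hne
    have hVi : Subgroup.relIndex V Ps = p := by
      obtain ⟨k, hk⟩ := IsPGroup.iff_card.mp P.2
      have hd : Subgroup.relIndex V Ps ∣ p ^ k := hk ▸ Subgroup.relIndex_dvd_card _ _
      obtain ⟨j, -, hj⟩ := (Nat.dvd_prime_pow hp.out).mp hd
      have hj0 : j ≠ 0 := fun h0 => by
        rw [h0, pow_zero, Subgroup.relIndex_eq_one] at hj
        exact hne hj
      refine le_antisymm (hDV ▸ hDidx) ?_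
      rw [hj]
      calc p = p ^ 1 := (pow_one p).symm
        _ ≤ p ^ j := Nat.pow_le_pow_right hp.out.pos (by omega)
    have hVp : p ^ 2 = Nat.card V := by
      let h : V →* Ps := (MonoidHom.mk' (fun w => ⁅(⟨a, ha⟩ : Ps), w⁆) (hmulr _)).comp (Subgroup.inclusion hVP)
      have hr : Nat.card h.range ≤ p := by
        have hle : h.range ≤ Subgroup.center Ps := by rintro _ ⟨w, rfl⟩; exact hT.comm_mem _ _
        exact (Nat.le_of_dvd Nat.card_pos (Subgroup.card_dvd_of_le hle)).trans
          ((Subgroup.card_map_of_injective Ps.subtype_injective).symm.le.trans hZcard)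
      have hk : h.ker.map V.subtype ≤ Z := by
        rintro _ ⟨v, hv, rfl⟩
        refine (hZmem ⟨v, hVP v.2⟩).mpr (Subgroup.mem_center_iff.mpr fun w => ?_)
        have hav : a * v = v * a := congrArg Subtype.val (commutatorElement_eq_one_iff_mul_comm.mp hv)
        have hle : V ⊔ Subgroup.zpowers a ≤ Subgroup.centralizer ({(v : G)} : Set G) := sup_le
          (fun y hy => Subgroup.mem_centralizer_singleton_iff.mpr (hVc y hy v v.2))
          (Subgroup.zpowers_le.mpr (Subgroup.mem_centralizer_singleton_iff.mpr hav))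
        have htop : Ps ≤ V ⊔ Subgroup.zpowers a := by
          set J := V ⊔ Subgroup.zpowers a
          have hJ : J ≤ Ps := sup_le hVP (Subgroup.zpowers_le.mpr ha)
          have h1 := Subgroup.relIndex_mul_relIndex V J Ps le_sup_left hJ
          rw [hVi] at h1
          rcases (Nat.dvd_prime hp.out).mp (Dvd.intro_left _ h1) with h2 | h2
          · exact Subgroup.relIndex_eq_one.mp h2
          · exfalso
            rw [h2] at h1
            have h3 : V.relIndex J = 1 := (mul_eq_right₀ hp.out.ne_zero).mp h1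
            exact haV (Subgroup.relIndex_eq_one.mp h3
              (Subgroup.mem_sup_right (Subgroup.mem_zpowers a)))
        exact Subtype.ext (Subgroup.mem_centralizer_singleton_iff.mp (hle (htop w.2)))
      have hk' : Nat.card h.ker ≤ p := by
        rw [← Subgroup.card_map_of_injective V.subtype_injective]
        exact (Nat.le_of_dvd Nat.card_pos (Subgroup.card_dvd_of_le hk)).trans hZcard
      have hmul := Subgroup.card_mul_index h.ker
      rw [Subgroup.index_ker] at hmul
      have hupper : Nat.card V ≤ p ^ 2 := by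
        rw [← hmul, sq]
        exact Nat.mul_le_mul hk' hr
      refine le_antisymm ?_ hupper
      obtain ⟨k, hk⟩ := IsPGroup.iff_card.mp (CfsgLib.Fitting.pCore_isPGroup (G := G) p)
      rw [hk]
      refine Nat.pow_le_pow_right hp.out.pos ?_
      by_contra hc
      push Not at hc
      have hu1 : u ≠ 1 := fun h => huZ (h ▸ Z.one_mem)
      have hZ1 : Z ≠ ⊥ := fun h => by
        rw [h, Subgroup.mem_bot] at hz₀
        exact hu1 (by rw [hu, hz₀, mul_one, mul_inv_cancel])
      haveI : Nontrivial Z := (Subgroup.nontrivial_iff_ne_bot _).mpr hZ1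
      have hlt : Nat.card Z < Nat.card V := by
        refine lt_of_le_of_ne (Nat.le_of_dvd Nat.card_pos (Subgroup.card_dvd_of_le hZV)) fun h => huZ ?_
        exact (Subgroup.eq_of_le_of_card_ge hZV h.ge) ▸ huV
      have h1 : 1 < Nat.card Z := Finite.one_lt_card
      obtain ⟨i, hi⟩ := IsPGroup.iff_card.mp (P.2.to_le hZP)
      rw [hi] at h1 hlt
      rw [hk] at hlt
      have hlt' := (Nat.pow_lt_pow_iff_right hp.out.one_lt).mp hlt
      have : i ≠ 0 := fun h0 => by rw [h0, pow_zero] at h1; omega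
      omega
    have hP3 : Nat.card Ps = p ^ 3 := by
      have h1 := CfsgLib.Coprime.relIndex_mul_card_inf V Ps
      rw [inf_eq_left.mpr hVP, hVi, ← hVp] at h1
      rw [← h1]; ring
    have hp23 : p = 2 ∨ p = 3 := by
      have h2 := hp.out.two_le
      have h4 : p ≠ 4 := fun h => absurd (h ▸ hp.out) (by norm_num)
      omega
    rcases hp23 with rfl | rfl
    · refine hT.two rfl (by simpa using hP3) uu huc (Subtype.ext ?_)
      show u ^ 2 = 1
      exact hVexp u huV
    · exact huc (hT.three rfl (by simpa using hP3) uu)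

/-- `p`-length one for a Sylow subgroup of minimal non-nilpotent type. -/
theorem pLengthLE_one_of_mnnType (hG : Cfsg.IsPSolvable p G) (P : Sylow p G)
    (hT : MnnType p (P : Subgroup G)) : Cfsg.PLengthLE p 1 G := by
  haveI := CfsgLib.Transfer.pPrimeCore_normal p G
  rw [Blocks.pLengthLE_one_iff P]
  set K := Cfsg.pPrimeCore p G
  set π := QuotientGroup.mk' K with hπ
  have hs : Function.Surjective π := QuotientGroup.mk'_surjective K
  set P' := P.mapSurjective hs with hP'
  have hcoe : (P' : Subgroup (G ⧸ K)) = (P : Subgroup G).map π := rfl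
  have e : (P : Subgroup G) ≃* (P' : Subgroup (G ⧸ K)) := by
    let f : (P : Subgroup G) →* (P : Subgroup G).map π := π.subgroupMap (P : Subgroup G)
    have hfi : Function.Injective f := by
      rw [injective_iff_map_eq_one]
      intro x hx
      have h1 : (x : G) ∈ K := (QuotientGroup.eq_one_iff _).mp (congrArg Subtype.val hx)
      exact Subtype.ext (PSolvable.eq_one_of_mem_of_mem P.2 (CfsgLib.Transfer.pPrimeCore_coprime p) x.2 h1)
    exact (MulEquiv.ofBijective f ⟨hfi, π.subgroupMap_surjective _⟩).trans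
      (MulEquiv.subgroupCongr hcoe.symm)
  have hle := sylow_le_pCore (PSolvable.isPSolvable_of_surjective π hs hG)
    (PSolvable.pPrimeCore_eq_bot_of_ker hs (QuotientGroup.ker_mk' K)) P' (hT.of_equiv e)
  have heq : (P' : Subgroup (G ⧸ K)) = Cfsg.pCore p (G ⧸ K) :=
    (P'.is_maximal' (CfsgLib.Fitting.pCore_isPGroup p) hle).symm
  rw [← hcoe, heq]
  exact CfsgLib.Fitting.pCore_normal p

end CfsgLib.PLengthOne
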